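import Mathlib
import Groth.Agent.Lib.Helper8.NormInt.NormLoc

/-!
# Local rings of smooth algebras over a normal domain are normal domains (helper8)
-/

universe u
open IsLocalRing TensorProduct

namespace Groth.Agent.H8.SmPrime

open Groth.Agent.H8.Hens Groth.Agent.H8.NormInt

/-- Polynomial rings in finitely many variables over a normal domain are normal. -/
theorem isIntegrallyClosed_mvPolynomial_fin (P : Type u) [CommRing P] [IsDomain P]
    [IsIntegrallyClosed P] (n : ℕ) : IsIntegrallyClosed (MvPolynomial (Fin n) P) := by
  induction n with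
  | zero =>
    exact IsIntegrallyClosed.of_equiv (MvPolynomial.isEmptyAlgEquiv P (Fin 0)).symm.toRingEquiv
  | succ n ih =>
    haveI := ih
    haveI : IsIntegrallyClosed (Polynomial (MvPolynomial (Fin n) P)) := inferInstance
    exact IsIntegrallyClosed.of_equiv (MvPolynomial.finSuccEquiv P n).symm.toRingEquiv

/-- The local rings of a smooth algebra over a normal domain are normal domains. -/
theorem normal_of_smooth_atPrime (P B : Type u) [CommRing P] [IsDomain P] [IsIntegrallyClosed P]
    [CommRing B] [Algebra P B] [Algebra.Smooth P B] (q : Ideal B) [q.IsPrime] :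
    IsDomain (Localization.AtPrime q) ∧ IsIntegrallyClosed (Localization.AtPrime q) := by
  haveI : Algebra.IsSmoothAt P q := inferInstance
  obtain ⟨f, hfq, n, algPAf, htower, hstd⟩ :=
    Algebra.IsSmoothAt.exists_isStandardEtale_mvPolynomial (R := P) (S := B) (p := q)
  haveI := isIntegrallyClosed_mvPolynomial_fin P n
  haveI : Algebra.Etale (MvPolynomial (Fin n) P) (Localization.Away f) := inferInstance
  have hdisj : Disjoint (Submonoid.powers f : Set B) (q : Set B) :=
    (Ideal.disjoint_powers_iff_notMem_of_isPrime _).mpr hfq
  obtain ⟨p'', hp''⟩ : ∃ p'' : Ideal (Localization.Away f),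
      p'' = q.map (algebraMap B (Localization.Away f)) := ⟨_, rfl⟩
  haveI hp''prime : p''.IsPrime := by
    rw [hp'']
    exact IsLocalization.isPrime_of_isPrime_disjoint (.powers f) _ _ ‹_› hdisj
  have hcomap : p''.comap (algebraMap B (Localization.Away f)) = q := by
    rw [hp'']
    exact IsLocalization.comap_map_of_isPrime_disjoint (.powers f) _ ‹_› hdisj
  obtain ⟨h1, h2⟩ := normal_of_etale_atPrime (MvPolynomial (Fin n) P) (Localization.Away f) p''
  haveI : IsLocalization.AtPrime (Localization.AtPrime p'')
      (p''.comap (algebraMap B (Localization.Away f))) :=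
    IsLocalization.isLocalization_isLocalization_atPrime_isLocalization (.powers f) _ p''
  have hM : (p''.comap (algebraMap B (Localization.Away f))).primeCompl = q.primeCompl := by
    ext x
    show x ∉ p''.comap (algebraMap B (Localization.Away f)) ↔ x ∉ q
    rw [hcomap]
  haveI : IsLocalization (p''.comap (algebraMap B (Localization.Away f))).primeCompl
      (Localization.AtPrime q) := by
    rw [hM]; infer_instance
  let e : Localization.AtPrime p'' ≃ₐ[B] Localization.AtPrime q :=
    IsLocalization.algEquiv (p''.comap (algebraMap B (Localization.Away f))).primeCompl _ _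
  exact ⟨e.toMulEquiv.isDomain_iff.mp h1, IsIntegrallyClosed.of_equiv e.toRingEquiv⟩

/-- The local rings of a smooth algebra over a normal domain are normal domains (general
localization). -/
theorem normal_of_smooth_isLocalization (P B : Type u) [CommRing P] [IsDomain P]
    [IsIntegrallyClosed P] [CommRing B] [Algebra P B] [Algebra.Smooth P B] (q : Ideal B)
    [q.IsPrime] (T : Type u) [CommRing T] [Algebra B T] [IsLocalization.AtPrime T q] :
    IsDomain T ∧ IsIntegrallyClosed T := by
  obtain ⟨h1, h2⟩ := normal_of_smooth_atPrime P B q
  let e : Localization.AtPrime q ≃ₐ[B] T := IsLocalization.algEquiv q.primeCompl _ _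
  exact ⟨e.toMulEquiv.isDomain_iff.mp h1, IsIntegrallyClosed.of_equiv e.toRingEquiv⟩

end Groth.Agent.H8.SmPrime
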