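import Mathlib
import Groth.Agent.Lib.Helper8.Hens.GeomUnibranch

/-!
# A criterion for the strict henselization to be a domain (helper8)
-/

universe u
open IsLocalRing TensorProduct

namespace Groth.Agent.H8.SmPrime

open Groth.Agent.H8.Hens

/-- If the local ring `R₀` embeds into a normal local domain `N₀`, integral over `R₀`, with purely
inseparable residue field extension, then the strict henselization of `R₀` is a domain. -/
theorem isDomain_of_integral_normal (R₀ S₀ N₀ : Type u) [CommRing R₀] [IsLocalRing R₀]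
    [CommRing S₀] [IsLocalRing S₀] [Algebra R₀ S₀] [IsLocalHom (algebraMap R₀ S₀)]
    [hS : Hensel.IsStrictHenselization R₀ S₀]
    [CommRing N₀] [IsLocalRing N₀] [IsDomain N₀] [IsIntegrallyClosed N₀] [Algebra R₀ N₀]
    [IsLocalHom (algebraMap R₀ N₀)] [Algebra.IsIntegral R₀ N₀]
    [IsPurelyInseparable (ResidueField R₀) (ResidueField N₀)]
    (hinj0 : Function.Injective (algebraMap R₀ N₀)) : IsDomain S₀ := by
  haveI := SIB.isLocalRing_tensor R₀ N₀ S₀
  haveI := SIB.isLocalHom_tensor R₀ N₀ S₀
  haveI hT := SIB.isStrictHenselization_tensor R₀ N₀ S₀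
  obtain ⟨hd, -⟩ := (normal_iff_of_isStrictHenselization
    (R := N₀) (N₀ ⊗[R₀] S₀)).mp ⟨inferInstance, inferInstance⟩
  haveI : Module.Flat R₀ S₀ := flat_of_isStrictHenselization (R := R₀) S₀
  have hinj : Function.Injective
      (Algebra.TensorProduct.includeRight : S₀ →ₐ[R₀] N₀ ⊗[R₀] S₀) :=
    Algebra.TensorProduct.includeRight_injective hinj0
  exact hinj.isDomain (Algebra.TensorProduct.includeRight : S₀ →ₐ[R₀] N₀ ⊗[R₀] S₀).toRingHom

end Groth.Agent.H8.SmPrime
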