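import Mathlib
import Groth.Agent.Lib.Helper8.SmPrime.Normal
import Groth.Agent.Lib.Helper8.SmPrime.GU
import Groth.Agent.Lib.Helper8.Hens.PITensor3
import Groth.Agent.Lib.Helper8.Hens.StrictQuot
import Groth.Agent.Lib.Helper8.Hens.QuotHens
import Groth.Agent.Lib.Helper8.Hens.IntegralHens

/-!
# A prime element of a strictly henselian local ring stays prime in the strict henselizations of
smooth algebras (helper8)
-/

universe u
open IsLocalRing TensorProduct

namespace Groth.Agent.H8.SmPrime

open Groth.Agent.H8.Hens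

section M

variable (R : Type u) [CommRing R] [IsLocalRing R]
  (N : Type u) [CommRing N] [IsLocalRing N] [IsDomain N] [IsIntegrallyClosed N] [Algebra R N]
  [IsLocalHom (algebraMap R N)] [Algebra.IsIntegral R N]
  [IsPurelyInseparable (ResidueField R) (ResidueField N)]
  (R' : Type u) [CommRing R'] [Algebra R R'] [Algebra.Smooth R R']
  (q : Ideal R') [q.IsPrime]

omit [IsDomain N] [IsIntegrallyClosed N] [IsLocalRing N] [IsLocalHom (algebraMap R N)]
  [Algebra.IsIntegral R N] [IsPurelyInseparable (ResidueField R) (ResidueField N)]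
  [Algebra.Smooth R R'] in
theorem isLocalHom_atPrime (hq : (maximalIdeal R).map (algebraMap R R') ≤ q) :
    IsLocalHom (algebraMap R (Localization.AtPrime q)) := by
  constructor
  intro r hr
  by_contra hnu
  have h1 : r ∈ maximalIdeal R := (mem_maximalIdeal r).mpr hnu
  have h2 : algebraMap R R' r ∈ q := hq (Ideal.mem_map_of_mem _ h1)
  rw [IsScalarTower.algebraMap_apply R R' (Localization.AtPrime q)] at hr
  have h3 := (IsLocalization.AtPrime.isUnit_to_map_iff (Localization.AtPrime q) q
    (algebraMap R R' r)).mp hr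
  exact h3 h2

attribute [local instance] Algebra.TensorProduct.rightAlgebra in
/-- `R'_q ⊗_R N` is a normal domain when it is local. -/
theorem normal_tensor [IsLocalRing (Localization.AtPrime q ⊗[R] N)] :
    IsDomain (Localization.AtPrime q ⊗[R] N) ∧
      IsIntegrallyClosed (Localization.AtPrime q ⊗[R] N) := by
  haveI : Algebra.Smooth N (R' ⊗[R] N) :=
    Algebra.Smooth.of_equiv (Algebra.TensorProduct.commRight R N R')
  letI : Algebra (R' ⊗[R] N) (Localization.AtPrime q ⊗[R] N) :=
    (Algebra.TensorProduct.map (IsScalarTower.toAlgHom R R' (Localization.AtPrime q))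
      (AlgHom.id R N)).toRingHom.toAlgebra
  have halg : ∀ (x : R') (n : N), algebraMap (R' ⊗[R] N) (Localization.AtPrime q ⊗[R] N)
      (x ⊗ₜ n) = (algebraMap R' (Localization.AtPrime q) x) ⊗ₜ n := fun x n => rfl
  haveI : IsScalarTower R' (R' ⊗[R] N) (Localization.AtPrime q ⊗[R] N) :=
    IsScalarTower.of_algebraMap_eq (fun x => by
      rw [Algebra.TensorProduct.algebraMap_apply, Algebra.TensorProduct.algebraMap_apply, halg]
      rfl)
  have H : (algebraMap (R' ⊗[R] N) (Localization.AtPrime q ⊗[R] N)).comp
      Algebra.TensorProduct.includeRight.toRingHom =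
      Algebra.TensorProduct.includeRight.toRingHom := by
    ext n
    show algebraMap (R' ⊗[R] N) (Localization.AtPrime q ⊗[R] N) ((1 : R') ⊗ₜ n) = _
    rw [halg, map_one]
    rfl
  haveI hloc : IsLocalization (Algebra.algebraMapSubmonoid (R' ⊗[R] N) q.primeCompl)
      (Localization.AtPrime q ⊗[R] N) :=
    IsLocalization.tensorProduct_tensorProduct R N q.primeCompl (Localization.AtPrime q) H
  obtain ⟨q', hq'⟩ : ∃ q' : Ideal (R' ⊗[R] N), q' = (maximalIdeal
      (Localization.AtPrime q ⊗[R] N)).comap
      (algebraMap (R' ⊗[R] N) (Localization.AtPrime q ⊗[R] N)) := ⟨_, rfl⟩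
  have hq'mem : ∀ x, x ∈ q' ↔ algebraMap (R' ⊗[R] N) (Localization.AtPrime q ⊗[R] N) x ∈
      maximalIdeal (Localization.AtPrime q ⊗[R] N) := fun x => by rw [hq', Ideal.mem_comap]
  haveI : q'.IsPrime := by rw [hq']; exact Ideal.comap_isPrime _ _
  haveI : IsLocalization.AtPrime (Localization.AtPrime q ⊗[R] N) q' := by
    refine IsLocalization.of_le (M := Algebra.algebraMapSubmonoid (R' ⊗[R] N) q.primeCompl)
      q'.primeCompl ?_ ?_
    · intro x hx
      show x ∉ q'
      rw [hq'mem]
      exact IsLocalRing.notMem_maximalIdeal.mpr (IsLocalization.map_units _ (⟨x, hx⟩ :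
        Algebra.algebraMapSubmonoid (R' ⊗[R] N) q.primeCompl))
    · intro r hr
      have h1 : r ∉ q' := hr
      rw [hq'mem] at h1
      exact IsLocalRing.notMem_maximalIdeal.mp h1
  exact normal_of_smooth_isLocalization N (R' ⊗[R] N) q' (Localization.AtPrime q ⊗[R] N)

set_option maxHeartbeats 1600000 in
/-- Main lemma: the ideal generated by `Δ` in the strict henselization of `R'_q` is prime, given
a normal local domain `N` integral over `R` with kernel `(Δ)` and purely inseparable residue
extension. -/
theorem isPrime_map_span (hq : (maximalIdeal R).map (algebraMap R R') ≤ q)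
    (Δ : R) (hΔ : Δ ∈ maximalIdeal R) (hker : RingHom.ker (algebraMap R N) = Ideal.span {Δ})
    (T : Type u) [CommRing T] [IsLocalRing T] [Algebra (Localization.AtPrime q) T]
    [IsLocalHom (algebraMap (Localization.AtPrime q) T)]
    [hT : Hensel.IsStrictHenselization (Localization.AtPrime q) T] :
    ((Ideal.span {algebraMap R (Localization.AtPrime q) Δ}).map
      (algebraMap (Localization.AtPrime q) T)).IsPrime := by
  haveI hRL : IsLocalHom (algebraMap R (Localization.AtPrime q)) := isLocalHom_atPrime R R' q hq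
  haveI : Module.Flat R (Localization.AtPrime q) := Module.Flat.trans R R' _
  haveI : Nontrivial (Localization.AtPrime q ⊗[R] N) := PI.nontrivial_tensor R _ N
  haveI hN₀loc : IsLocalRing (Localization.AtPrime q ⊗[R] N) := PI.isLocalRing_tensor R _ N
  obtain ⟨hN₀dom, hN₀norm⟩ := normal_tensor R N R' q
  haveI := hN₀dom
  haveI := hN₀norm
  haveI hLN₀ : IsLocalHom (algebraMap (Localization.AtPrime q)
      (Localization.AtPrime q ⊗[R] N)) := PI.isLocalHom_includeLeft R _ N
  -- the ideal
  obtain ⟨I, hI⟩ : ∃ I : Ideal (Localization.AtPrime q),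
      I = Ideal.span {algebraMap R (Localization.AtPrime q) Δ} := ⟨_, rfl⟩
  rw [← hI]
  have hItop : I ≠ ⊤ := by
    intro h
    have h1 : algebraMap R (Localization.AtPrime q) Δ ∈
        maximalIdeal (Localization.AtPrime q) := by
      have h := ((local_hom_TFAE (algebraMap R (Localization.AtPrime q))).out 0 3).mp hRL
      exact h hΔ
    have h2 : I ≤ maximalIdeal (Localization.AtPrime q) := by
      rw [hI, Ideal.span_singleton_le_iff_mem]; exact h1
    rw [h] at h2
    exact (maximalIdeal.isMaximal _).ne_top (top_le_iff.mp h2)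
  haveI : IsLocalRing (Localization.AtPrime q ⧸ I) := UMP.isLocalRing_quotient I hItop
  haveI : IsLocalRing (T ⧸ I.map (algebraMap (Localization.AtPrime q) T)) :=
    UMP.isLocalRing_quotient _ (UMP.map_ne_top I hItop)
  haveI : IsLocalHom (algebraMap (Localization.AtPrime q ⧸ I)
      (T ⧸ I.map (algebraMap (Localization.AtPrime q) T))) := UMP.isLocalHom_quotient I
  haveI := UMP.isStrictHenselization_quotient (A := Localization.AtPrime q) (S := T) I
  -- algebra structure of `N₀ = L ⊗ N` over `R₀ = L ⧸ I`
  have h0 : algebraMap R N Δ = 0 := by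
    have : Δ ∈ RingHom.ker (algebraMap R N) := by
      rw [hker]; exact Ideal.mem_span_singleton_self Δ
    exact this
  have hkill : ∀ a ∈ I, algebraMap (Localization.AtPrime q)
      (Localization.AtPrime q ⊗[R] N) a = 0 := by
    intro a ha
    rw [hI] at ha
    obtain ⟨c, rfl⟩ := Ideal.mem_span_singleton'.mp ha
    show (c * algebraMap R (Localization.AtPrime q) Δ) ⊗ₜ[R] (1 : N) = 0
    rw [mul_comm, ← Algebra.smul_def, TensorProduct.smul_tmul, Algebra.smul_def, mul_one, h0,
      TensorProduct.tmul_zero]
  letI algR₀N₀ : Algebra (Localization.AtPrime q ⧸ I) (Localization.AtPrime q ⊗[R] N) :=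
    (Ideal.Quotient.lift I (algebraMap _ _) hkill).toAlgebra
  have halg : ∀ l : Localization.AtPrime q, algebraMap (Localization.AtPrime q ⧸ I)
      (Localization.AtPrime q ⊗[R] N) (Ideal.Quotient.mk I l) = l ⊗ₜ[R] (1 : N) := fun l => rfl
  haveI : IsScalarTower (Localization.AtPrime q) (Localization.AtPrime q ⧸ I)
      (Localization.AtPrime q ⊗[R] N) := by
    constructor
    intro l x n
    obtain ⟨l', rfl⟩ := Ideal.Quotient.mk_surjective x
    show (Ideal.Quotient.mk I (l * l')) • n = l • (Ideal.Quotient.mk I l' • n)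
    have hsm : ∀ m : Localization.AtPrime q ⊗[R] N, l • m = (l ⊗ₜ[R] (1 : N)) * m := by
      intro m
      induction m with
      | zero => simp
      | add x y hx hy => rw [smul_add, mul_add, hx, hy]
      | tmul a b =>
        rw [TensorProduct.smul_tmul', Algebra.TensorProduct.tmul_mul_tmul, one_mul, smul_eq_mul]
    rw [Algebra.smul_def, Algebra.smul_def (Ideal.Quotient.mk I l'), hsm, halg, halg, ← mul_assoc,
      Algebra.TensorProduct.tmul_mul_tmul, mul_one]
  haveI : IsLocalHom (algebraMap (Localization.AtPrime q ⧸ I)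
      (Localization.AtPrime q ⊗[R] N)) := by
    constructor
    intro x hx
    obtain ⟨l, rfl⟩ := Ideal.Quotient.mk_surjective x
    have h1 : IsUnit (algebraMap (Localization.AtPrime q)
        (Localization.AtPrime q ⊗[R] N) l) := hx
    exact (IsLocalHom.map_nonunit (f := algebraMap (Localization.AtPrime q)
      (Localization.AtPrime q ⊗[R] N)) l h1).map _
  haveI : Algebra.IsIntegral (Localization.AtPrime q) (Localization.AtPrime q ⊗[R] N) :=
    ⟨fun x => by
      induction x with
      | zero => exact isIntegral_zero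
      | add x y hx hy => exact hx.add hy
      | tmul l n => exact IsIntegral.tmul l (Algebra.IsIntegral.isIntegral n)⟩
  haveI : Algebra.IsIntegral (Localization.AtPrime q ⧸ I) (Localization.AtPrime q ⊗[R] N) :=
    ⟨fun x => (Algebra.IsIntegral.isIntegral (R := Localization.AtPrime q) x).tower_top⟩
  -- purely inseparable residue field extension
  haveI : IsLocalHom (algebraMap R (Localization.AtPrime q ⧸ I)) := by
    constructor
    intro r hr
    rw [IsScalarTower.algebraMap_apply R (Localization.AtPrime q)
      (Localization.AtPrime q ⧸ I)] at hr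
    haveI : IsLocalHom (Ideal.Quotient.mk I) := .of_surjective _ Ideal.Quotient.mk_surjective
    have h1 : IsUnit (algebraMap R (Localization.AtPrime q) r) :=
      IsLocalHom.map_nonunit (f := Ideal.Quotient.mk I) _ hr
    exact IsLocalHom.map_nonunit (f := algebraMap R (Localization.AtPrime q)) r h1
  obtain ⟨p, hp⟩ : ∃ p : ℕ, p = ringExpChar (ResidueField R) := ⟨_, rfl⟩
  haveI : ExpChar (ResidueField R) p := by rw [hp]; exact ringExpChar.expChar _
  haveI : ExpChar (ResidueField (Localization.AtPrime q ⧸ I)) p :=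
    expChar_of_injective_algebraMap (algebraMap (ResidueField R)
      (ResidueField (Localization.AtPrime q ⧸ I))).injective p
  haveI : IsPurelyInseparable (ResidueField (Localization.AtPrime q ⧸ I))
      (ResidueField (Localization.AtPrime q ⊗[R] N)) := by
    rw [isPurelyInseparable_iff_pow_mem _ p]
    intro y
    obtain ⟨x, rfl⟩ := residue_surjective y
    obtain ⟨n, c, hc⟩ := PI.exists_pow_sub_mem_maximalIdeal R (Localization.AtPrime q) N p x
    refine ⟨n, residue _ (Ideal.Quotient.mk I c), ?_⟩
    have h1 : residue (Localization.AtPrime q ⊗[R] N) (x ^ p ^ n - c ⊗ₜ[R] (1 : N)) = 0 :=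
      (residue_eq_zero_iff _).mpr hc
    rw [map_sub, map_pow, sub_eq_zero] at h1
    rw [h1]
    rfl
  -- injectivity
  have hinj0 : Function.Injective (algebraMap (Localization.AtPrime q ⧸ I)
      (Localization.AtPrime q ⊗[R] N)) := by
    rw [injective_iff_map_eq_zero]
    intro x hx
    obtain ⟨l, rfl⟩ := Ideal.Quotient.mk_surjective x
    have h1 : l ⊗ₜ[R] (1 : N) = 0 := hx
    obtain ⟨J, hJ⟩ : ∃ J : Ideal R, J = Ideal.span {Δ} := ⟨_, rfl⟩
    have hJle : ∀ a ∈ J, Algebra.ofId R N a = 0 := fun a ha => by
      have : a ∈ RingHom.ker (algebraMap R N) := by rw [hker, ← hJ]; exact ha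
      exact this
    let f : (R ⧸ J) →ₐ[R] N := Ideal.Quotient.liftₐ J (Algebra.ofId R N) hJle
    have hf : Function.Injective f := by
      rw [injective_iff_map_eq_zero]
      intro z hz
      obtain ⟨a, rfl⟩ := Ideal.Quotient.mk_surjective z
      have h2 : algebraMap R N a = 0 := hz
      have h3 : a ∈ RingHom.ker (algebraMap R N) := h2
      rw [hker, ← hJ] at h3
      exact Ideal.Quotient.eq_zero_iff_mem.mpr h3
    have hg : Function.Injective (f.toLinearMap.lTensor (Localization.AtPrime q)) :=
      Module.Flat.lTensor_preserves_injective_linearMap (M := Localization.AtPrime q)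
        f.toLinearMap hf
    have h2 : (f.toLinearMap.lTensor (Localization.AtPrime q)) (l ⊗ₜ[R] (1 : R ⧸ J)) = 0 := by
      rw [LinearMap.lTensor_tmul]
      show l ⊗ₜ[R] f 1 = 0
      rw [map_one, h1]
    have h3 : l ⊗ₜ[R] (1 : R ⧸ J) = 0 := hg (by rw [h2, map_zero])
    have h4 : (TensorProduct.tensorQuotEquivQuotSMul (Localization.AtPrime q) J).symm
        (Submodule.Quotient.mk l) = 0 := by
      rw [TensorProduct.tensorQuotEquivQuotSMul_symm_mk]; exact h3
    have h5 := (LinearEquiv.map_eq_zero_iff _).mp h4
    rw [Submodule.Quotient.mk_eq_zero, hJ, Submodule.ideal_span_singleton_smul] at h5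
    obtain ⟨l', -, hl'⟩ := (Submodule.mem_smul_pointwise_iff_exists _ _ _).mp h5
    rw [Ideal.Quotient.eq_zero_iff_mem, hI, Ideal.mem_span_singleton']
    exact ⟨l', by rw [← hl', Algebra.smul_def, mul_comm]⟩
  haveI hdom : IsDomain (T ⧸ I.map (algebraMap (Localization.AtPrime q) T)) :=
    isDomain_of_integral_normal (Localization.AtPrime q ⧸ I) _
      (Localization.AtPrime q ⊗[R] N) hinj0
  exact (Ideal.Quotient.isDomain_iff_prime _).mp hdom

end M

end Groth.Agent.H8.SmPrime
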