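import Mathlib
import Groth.Agent.Lib.Helper8.SmPrime.Main

/-!
# S17730: prime elements stay prime in strict henselizations of smooth algebras (helper8)
-/

universe u
open IsLocalRing TensorProduct

namespace Groth.Agent.H8.SmPrime

open Groth.Agent.H8.Hens

set_option maxHeartbeats 1600000 in
theorem prime_map_strictHenselization
    (R R' T : Type u) [CommRing R] [HenselianLocalRing R]
    [IsSepClosed (ResidueField R)]
    [CommRing R'] [Algebra R R'] [Algebra.Smooth R R']
    (q : Ideal R') [q.IsPrime] (hq : (maximalIdeal R).map (algebraMap R R') ≤ q)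
    [CommRing T] [IsLocalRing T] [Algebra (Localization.AtPrime q) T]
    [IsLocalHom (algebraMap (Localization.AtPrime q) T)]
    [Hensel.IsStrictHenselization (Localization.AtPrime q) T]
    (Δ : R) (hΔ : Prime Δ) :
    Prime (algebraMap (Localization.AtPrime q) T
      (algebraMap R' (Localization.AtPrime q) (algebraMap R R' Δ))) := by
  -- the quotient domain
  obtain ⟨J, hJ⟩ : ∃ J : Ideal R, J = Ideal.span {Δ} := ⟨_, rfl⟩
  haveI hJprime : J.IsPrime := by
    rw [hJ]; exact (Ideal.span_singleton_prime hΔ.ne_zero).mpr hΔ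
  haveI : IsLocalRing (R ⧸ J) := UMP.isLocalRing_quotient J hJprime.ne_top
  haveI : HenselianLocalRing (R ⧸ J) := henselianLocalRing_quotient J
  haveI : IsLocalHom (Ideal.Quotient.mk J) := .of_surjective _ Ideal.Quotient.mk_surjective
  haveI hlocRRbar : IsLocalHom (algebraMap R (R ⧸ J)) :=
    (inferInstance : IsLocalHom (Ideal.Quotient.mk J))
  -- the normalization
  haveI hNloc : IsLocalRing (integralClosure (R ⧸ J) (FractionRing (R ⧸ J))) :=
    isLocalRing_of_isDomain_of_isIntegral (R ⧸ J) _
  haveI : IsIntegrallyClosed (integralClosure (R ⧸ J) (FractionRing (R ⧸ J))) :=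
    integralClosure.isIntegrallyClosedOfFiniteExtension (FractionRing (R ⧸ J))
  letI algRN : Algebra R (integralClosure (R ⧸ J) (FractionRing (R ⧸ J))) :=
    ((algebraMap (R ⧸ J) (integralClosure (R ⧸ J) (FractionRing (R ⧸ J)))).comp
      (algebraMap R (R ⧸ J))).toAlgebra
  haveI : IsScalarTower R (R ⧸ J) (integralClosure (R ⧸ J) (FractionRing (R ⧸ J))) :=
    IsScalarTower.of_algebraMap_eq' rfl
  haveI : IsLocalHom (algebraMap (R ⧸ J) (integralClosure (R ⧸ J) (FractionRing (R ⧸ J)))) :=
    ShT.isLocalHom_of_isIntegral _ _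
  haveI : IsLocalHom (algebraMap R (integralClosure (R ⧸ J) (FractionRing (R ⧸ J)))) := by
    constructor
    intro r hr
    rw [IsScalarTower.algebraMap_apply R (R ⧸ J)] at hr
    have h1 : IsUnit (algebraMap R (R ⧸ J) r) := IsLocalHom.map_nonunit
      (f := algebraMap (R ⧸ J) (integralClosure (R ⧸ J) (FractionRing (R ⧸ J)))) _ hr
    exact IsLocalHom.map_nonunit (f := algebraMap R (R ⧸ J)) r h1
  haveI : Algebra.IsIntegral R (R ⧸ J) :=
    Algebra.IsIntegral.of_surjective (Algebra.ofId R (R ⧸ J)) Ideal.Quotient.mk_surjective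
  haveI : Algebra.IsIntegral R (integralClosure (R ⧸ J) (FractionRing (R ⧸ J))) :=
    Algebra.IsIntegral.trans (R := R) (A := R ⧸ J)
  haveI : Algebra.IsAlgebraic (ResidueField R)
      (ResidueField (integralClosure (R ⧸ J) (FractionRing (R ⧸ J)))) :=
    ShT.isAlgebraic_residueField R _
  haveI : IsPurelyInseparable (ResidueField R)
      (ResidueField (integralClosure (R ⧸ J) (FractionRing (R ⧸ J)))) := inferInstance
  have hinjN : Function.Injective
      (algebraMap (R ⧸ J) (integralClosure (R ⧸ J) (FractionRing (R ⧸ J)))) :=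
    GU.injective_algebraMap_integralClosure (R ⧸ J)
  have hker : RingHom.ker (algebraMap R (integralClosure (R ⧸ J) (FractionRing (R ⧸ J)))) =
      Ideal.span {Δ} := by
    rw [← hJ]
    ext a
    rw [RingHom.mem_ker, IsScalarTower.algebraMap_apply R (R ⧸ J),
      map_eq_zero_iff _ hinjN]
    exact Ideal.Quotient.eq_zero_iff_mem
  have hΔm : Δ ∈ maximalIdeal R := (mem_maximalIdeal Δ).mpr hΔ.not_unit
  have hprime := isPrime_map_span R (integralClosure (R ⧸ J) (FractionRing (R ⧸ J))) R' q hq Δ
    hΔm hker T
  rw [Ideal.map_span, Set.image_singleton] at hprime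
  -- nonvanishing
  haveI hRL : IsLocalHom (algebraMap R (Localization.AtPrime q)) := isLocalHom_atPrime R R' q hq
  haveI : Module.Flat R (Localization.AtPrime q) := Module.Flat.trans R R' _
  haveI : Module.FaithfullyFlat R (Localization.AtPrime q) :=
    Module.FaithfullyFlat.of_flat_of_isLocalHom
  haveI : Module.FaithfullyFlat (Localization.AtPrime q) T :=
    faithfullyFlat_of_isStrictHenselization (R := Localization.AtPrime q) T
  have hne : algebraMap (Localization.AtPrime q) T (algebraMap R (Localization.AtPrime q) Δ) ≠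
      0 := by
    intro h
    have h1 := (FaithfulSMul.algebraMap_injective (Localization.AtPrime q) T)
      (h.trans (map_zero _).symm)
    have h2 := (FaithfulSMul.algebraMap_injective R (Localization.AtPrime q))
      (h1.trans (map_zero _).symm)
    exact hΔ.ne_zero h2
  rw [← IsScalarTower.algebraMap_apply R R' (Localization.AtPrime q)]
  exact (Ideal.span_singleton_prime hne).mp hprime

end Groth.Agent.H8.SmPrime
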