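import Mathlib
import Groth.Agent.Lib.Helper8.SmPrime.Final
import Groth.Agent.Lib.Helper8.Hens.StrictTransfer
import Groth.Agent.Lib.Helper8.Hens.LocalTensor

/-!
# S13202: étale-universally prime elements (helper8)
-/

universe u
open IsLocalRing TensorProduct

namespace Groth.Agent.H8.SmPrime

open Groth.Agent.H8.Hens

set_option maxHeartbeats 1600000 in
/-- If `Δ` is prime in a strict henselization of `R_p`, it is prime in the strict henselization of
the local ring of a smooth `R`-algebra at a prime over `p`. -/
theorem prime_of_prime_strictHenselization (R : Type u) [CommRing R] (S : Type u) [CommRing S]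
    [Algebra R S] [Algebra.Smooth R S]
    (p : Ideal R) [p.IsPrime] (q : Ideal S) [q.IsPrime] [q.LiesOver p]
    (Ash : Type u) [CommRing Ash] [IsLocalRing Ash] [Algebra (Localization.AtPrime p) Ash]
    [IsLocalHom (algebraMap (Localization.AtPrime p) Ash)]
    [hA : Hensel.IsStrictHenselization (Localization.AtPrime p) Ash]
    (Bsh : Type u) [CommRing Bsh] [IsLocalRing Bsh] [Algebra (Localization.AtPrime q) Bsh]
    [IsLocalHom (algebraMap (Localization.AtPrime q) Bsh)]
    [hB : Hensel.IsStrictHenselization (Localization.AtPrime q) Bsh]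
    (Δ : R)
    (hΔ : Prime (algebraMap (Localization.AtPrime p) Ash
      (algebraMap R (Localization.AtPrime p) Δ))) :
    Prime (algebraMap (Localization.AtPrime q) Bsh
      (algebraMap S (Localization.AtPrime q) (algebraMap R S Δ))) := by
  set φ := Localization.localRingHom p q (algebraMap R S) (Ideal.LiesOver.over (P := q) (p := p))
    with hφ
  haveI : IsLocalHom φ := Localization.isLocalHom_localRingHom _ _ _ _
  let f : Localization.AtPrime p →+* Bsh := (algebraMap (Localization.AtPrime q) Bsh).comp φ
  haveI : IsLocalHom f := RingHom.isLocalHom_comp _ _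
  haveI : HenselianLocalRing Ash := hA.henselian
  haveI : IsSepClosed (ResidueField Ash) := hA.isSepClosure.sep_closed
  haveI : HenselianLocalRing Bsh := hB.henselian
  haveI : IsSepClosed (ResidueField Bsh) := hB.isSepClosure.sep_closed
  obtain ⟨ι, hι, hιloc⟩ :=
    LT.exists_lift_of_isSepClosed (A := Localization.AtPrime p) (S := Ash) Bsh f
  letI : Algebra R Ash :=
    ((algebraMap (Localization.AtPrime p) Ash).comp
      (algebraMap R (Localization.AtPrime p))).toAlgebra
  haveI : IsScalarTower R (Localization.AtPrime p) Ash :=
    IsScalarTower.of_algebraMap_eq fun _ => rfl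
  letI : Algebra S Bsh :=
    ((algebraMap (Localization.AtPrime q) Bsh).comp
      (algebraMap S (Localization.AtPrime q))).toAlgebra
  haveI : IsScalarTower S (Localization.AtPrime q) Bsh :=
    IsScalarTower.of_algebraMap_eq fun _ => rfl
  letI : Algebra R Bsh := ((algebraMap S Bsh).comp (algebraMap R S)).toAlgebra
  haveI : IsScalarTower R S Bsh := IsScalarTower.of_algebraMap_eq fun _ => rfl
  letI : Algebra Ash Bsh := ι.toAlgebra
  haveI : IsScalarTower R Ash Bsh := by
    refine IsScalarTower.of_algebraMap_eq fun r => ?_
    have h1 := congrArg (fun w => w (algebraMap R (Localization.AtPrime p) r)) hι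
    simp only [RingHom.comp_apply] at h1
    show algebraMap (Localization.AtPrime q) Bsh (algebraMap S (Localization.AtPrime q)
      (algebraMap R S r)) = ι (algebraMap (Localization.AtPrime p) Ash
        (algebraMap R (Localization.AtPrime p) r))
    rw [h1]
    show _ = algebraMap (Localization.AtPrime q) Bsh (φ (algebraMap R (Localization.AtPrime p) r))
    rw [hφ, Localization.localRingHom_to_map]
  haveI : IsLocalHom (algebraMap Ash Bsh) := hιloc
  -- `Bsh` is a strict henselization of `(Ash ⊗_R S)_Q`
  letI : Algebra (Localization.AtPrime (Qp R S Ash Bsh)) Bsh := (vMap R S Ash Bsh).toAlgebra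
  haveI : IsLocalHom (algebraMap (Localization.AtPrime (Qp R S Ash Bsh)) Bsh) :=
    isLocalHom_vMap R S Ash Bsh
  haveI : Hensel.IsStrictHenselization (Localization.AtPrime (Qp R S Ash Bsh)) Bsh :=
    isStrictHenselization_atPrime R S p q Ash Bsh
  -- the prime contains the maximal ideal
  have hQ : (maximalIdeal Ash).map (algebraMap Ash (Ash ⊗[R] S)) ≤ Qp R S Ash Bsh := by
    rw [Ideal.map_le_iff_le_comap]
    intro a ha
    rw [Ideal.mem_comap, Ideal.mem_comap]
    have h1 : phi R S Ash Bsh (algebraMap Ash (Ash ⊗[R] S) a) = algebraMap Ash Bsh a := by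
      rw [Algebra.TensorProduct.algebraMap_apply, Algebra.algebraMap_self, RingHom.id_apply]
      show Algebra.TensorProduct.lift _ _ _ (a ⊗ₜ[R] (1 : S)) = _
      rw [Algebra.TensorProduct.lift_tmul, map_one, mul_one]
      rfl
    rw [h1]
    by_contra hcon
    have h2 : IsUnit (algebraMap Ash Bsh a) := IsLocalRing.notMem_maximalIdeal.mp hcon
    have h3 : IsUnit a := IsLocalHom.map_nonunit (f := algebraMap Ash Bsh) a h2
    exact ((mem_maximalIdeal a).mp ha) h3
  have key := prime_map_strictHenselization Ash (Ash ⊗[R] S) Bsh (Qp R S Ash Bsh) hQ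
    (algebraMap (Localization.AtPrime p) Ash (algebraMap R (Localization.AtPrime p) Δ)) hΔ
  -- identify the elements
  have heq : algebraMap (Localization.AtPrime (Qp R S Ash Bsh)) Bsh
      (algebraMap (Ash ⊗[R] S) (Localization.AtPrime (Qp R S Ash Bsh))
        (algebraMap Ash (Ash ⊗[R] S)
          (algebraMap (Localization.AtPrime p) Ash (algebraMap R (Localization.AtPrime p) Δ)))) =
      algebraMap (Localization.AtPrime q) Bsh
        (algebraMap S (Localization.AtPrime q) (algebraMap R S Δ)) := by
    show vMap R S Ash Bsh _ = _
    rw [vMap_algebraMap, Algebra.TensorProduct.algebraMap_apply, Algebra.algebraMap_self,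
      RingHom.id_apply]
    show Algebra.TensorProduct.lift _ _ _ (_ ⊗ₜ[R] (1 : S)) = _
    rw [Algebra.TensorProduct.lift_tmul, map_one, mul_one]
    show algebraMap Ash Bsh (algebraMap R Ash Δ) = algebraMap R Bsh Δ
    rw [← IsScalarTower.algebraMap_apply R Ash Bsh]
  rw [← heq]
  exact key

/-- S13202 (library form; the regularity and Noetherian hypotheses are not needed). -/
theorem etaleUniversallyPrime_iff (R : Type u) [CommRing R] (Δ : R) :
    (∀ (p : Ideal R) [p.IsPrime], Δ ∈ p →
        ∀ (T : Type u) [CommRing T] [IsLocalRing T] [Algebra (Localization.AtPrime p) T]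
          [IsLocalHom (algebraMap (Localization.AtPrime p) T)]
          [Hensel.IsStrictHenselization (Localization.AtPrime p) T],
          Prime (algebraMap (Localization.AtPrime p) T
            (algebraMap R (Localization.AtPrime p) Δ))) ↔
    (∀ (R' : Type u) [CommRing R'] [Algebra R R'] [Algebra.Smooth R R'] (q : Ideal R')
        [q.IsPrime] (T : Type u) [CommRing T] [IsLocalRing T] [Algebra (Localization.AtPrime q) T]
          [IsLocalHom (algebraMap (Localization.AtPrime q) T)]
          [Hensel.IsStrictHenselization (Localization.AtPrime q) T],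
        IsUnit (algebraMap (Localization.AtPrime q) T
          (algebraMap R' (Localization.AtPrime q) (algebraMap R R' Δ))) ∨
          Prime (algebraMap (Localization.AtPrime q) T
            (algebraMap R' (Localization.AtPrime q) (algebraMap R R' Δ)))) := by
  constructor
  · intro h R' _ _ _ q _ T _ _ _ _ _
    obtain ⟨p, hp⟩ : ∃ p : Ideal R, p = q.comap (algebraMap R R') := ⟨_, rfl⟩
    haveI : p.IsPrime := by rw [hp]; exact Ideal.comap_isPrime _ _
    haveI : q.LiesOver p := ⟨hp⟩
    by_cases hΔ : Δ ∈ p
    · right
      haveI := isStrictHenselization (R := Localization.AtPrime p)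
      have h1 := h p hΔ (StrictHenselization (Localization.AtPrime p))
      exact prime_of_prime_strictHenselization R R' p q
        (StrictHenselization (Localization.AtPrime p)) T Δ h1
    · left
      have h1 : algebraMap R R' Δ ∉ q := by
        intro h2
        apply hΔ
        rw [hp, Ideal.mem_comap]
        exact h2
      exact (IsLocalization.map_units (Localization.AtPrime q)
        (⟨_, h1⟩ : q.primeCompl)).map (algebraMap (Localization.AtPrime q) T)
  · intro h p _ hΔ T _ _ _ _ _
    rcases h R p T with h1 | h1
    · exfalso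
      have h2 : IsUnit (algebraMap R (Localization.AtPrime p) Δ) :=
        IsLocalHom.map_nonunit (f := algebraMap (Localization.AtPrime p) T) _ h1
      exact ((IsLocalization.AtPrime.isUnit_to_map_iff (Localization.AtPrime p) p Δ).mp h2) hΔ
    · exact h1

end Groth.Agent.H8.SmPrime
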